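import Groth.Agent.Lib.Sect28.FamBundle
import Groth.Agent.Lib.PlaneBlow28.P1H1
import Groth.Agent.Lib.PlaneBlow28.Ruled
import Groth.Agent.Lib.DescentHom.GeomConnected
import Groth.Agent.Lib.CurveLocus.Basic
import Groth.Agent.Lib.CurveMult.BaseChangeH

/-!
# Families of projective lines with a section
-/

universe u

set_option autoImplicit false
set_option linter.all false
set_option backward.isDefEq.respectTransparency false
set_option maxHeartbeats 1000000

open CategoryTheory CategoryTheory.Limits AlgebraicGeometry TopologicalSpace Opposite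

noncomputable section

namespace GrothLib.Sect28

variable {C B : Scheme.{u}} (f : C ⟶ B)
  (hfib : ∀ (Ω : Type u) [Field Ω] [IsAlgClosed Ω] (b : Spec (CommRingCat.of Ω) ⟶ B),
      ∃ e : pullback f b ≅ CohB1.ProjSpace 1 Ω, e.hom ≫ CohB1.ProjSpace.toSpec 1 Ω = pullback.snd f b)

include hfib in
/-- Geometric fibres being lines, the family is connected of dimension one and genus zero. -/
theorem p1_family_props [IsProper f] :
    GeometricallyConnected f ∧ (∀ y, topologicalKrullDim (f.fiber y) = 1) ∧
      ∀ y, Subsingleton (Coh.HH (f.fiber y) (Coh.structureModule (f.fiber y)) 1) := by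
  refine ⟨DescentHom.geometricallyConnected_of_geomPt f fun s => ?_, fun y => ?_, fun y => ?_⟩
  · obtain ⟨e, -⟩ := hfib _ (Red.geomPt s)
    haveI := ProjDim.isIntegral_proj (AlgebraicClosure (B.residueField s)) 1
    exact e.inv.homeomorph.surjective.connectedSpace e.inv.continuous
  all_goals
    let Ω := AlgebraicClosure (B.residueField y)
    let g := Spec.map (CommRingCat.ofHom (algebraMap (B.residueField y) Ω))
    obtain ⟨e, -⟩ := hfib Ω (Red.geomPt y)
    haveI : IsProper (f.fiberToSpecResidueField y) := MorphismProperty.pullback_snd f _ inferInstance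
    let e' : pullback (f.fiberToSpecResidueField y) g ≅ CohB1.ProjSpace 1 Ω :=
      pullbackLeftPullbackSndIso f (B.fromSpecResidueField y) g ≪≫ e
  · rw [← CurveLocus.topologicalKrullDim_pullback (k := (B.residueField y : Type u)) (f.fiberToSpecResidueField y) Ω]
    exact ((Scheme.homeoOfIso (pullbackSymmetry g (f.fiberToSpecResidueField y) ≪≫ e')).isHomeomorph.topologicalKrullDim_eq).trans
      (CurveMult.P1Split.dim_P1 Ω)
  · letI : (f.fiber y).Over (Spec (CommRingCat.of (B.residueField y))) := ⟨f.fiberToSpecResidueField y⟩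
    haveI : IsProper (f.fiber y ↘ Spec (CommRingCat.of (B.residueField y))) := ‹IsProper (f.fiberToSpecResidueField y)›
    letI : (pullback (f.fiberToSpecResidueField y) g).Over (Spec (CommRingCat.of Ω)) := ⟨pullback.snd _ _⟩
    have h1 : Subsingleton (Coh.HH (pullback (f.fiberToSpecResidueField y) g)
        (Coh.structureModule (pullback (f.fiberToSpecResidueField y) g)) 1) :=
      PlaneBlow28.subsingleton_H1_of_iso_P1 Ω e'
    haveI := Euler.finiteDimensional_HH (X := f.fiber y) (B.residueField y)
      (Euler.isCoh_of_isInvertible Euler.isInvertible_structure) 1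
    refine Module.finrank_zero_iff.1 ((CurveMult.finrank_HH_structure_baseChange (algebraMap (B.residueField y) Ω)
      (X := f.fiber y) (X' := pullback (f.fiberToSpecResidueField y) g) (pullback.fst _ _)
      (IsPullback.of_hasPullback (f.fiberToSpecResidueField y) g) 1).symm.trans ?_)
    haveI := h1
    exact Module.finrank_zero_of_subsingleton

include hfib in
/-- A family of lines with a section is a projective bundle. -/
theorem exists_bundle_of_section [IsProper f] [SmoothOfRelativeDimension 1 f] (s : B ⟶ C) (hs : s ≫ f = 𝟙 B) :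
    ∃ (E : B.Modules) (L : C.Modules) (q : (Scheme.Modules.pullback f).obj E ⟶ L)
      (hI : PicF.IsInvertible (ClSub.idealMod s.ker)) (hL : PicF.IsInvertible L),
      FlatMod.IsFinLocFreeOfRank 2 E ∧ KRR.IsProjBundle f E L q ∧ Cube.clsMod hL = (Cube.clsMod hI)⁻¹ := by
  haveI : Smooth f := SmoothOfRelativeDimension.smooth 1 f
  obtain ⟨hgc, hd, hg⟩ := p1_family_props f hfib
  haveI := hgc
  have hI : PicF.IsInvertible (ClSub.idealMod s.ker) :=
    IdealModSec.isInvertible_of_isEffCartier (SmCurveFam.isEffCartier_section f hd s hs)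
  obtain ⟨L, hL, hcls⟩ := LefPic7.exists_rep ((Cube.clsMod hI)⁻¹)
  have hinv : ClSub.IsInverseOf L (ClSub.idealMod s.ker) :=
    (Cube.clsMod_eq_one_iff (Ample.isInvertible_tensorMod hL hI)).1
      ((Cube.clsMod_tensorMod hL hI).trans (by rw [hcls, inv_mul_cancel]))
  obtain ⟨E, q, hE, hP⟩ := exists_bundle_of_deg_one f hd hg hL fun y =>
    SmCurveFam.deg_fibre_eq_one f hd s hs hI hL hinv y
  exact ⟨E, L, q, hI, hL, hE, hP, hcls⟩

end GrothLib.Sect28
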