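import Groth.Agent.Lib.PBDeg17.OfUniv
import Groth.Agent.Lib.PBDeg17.Exists
import Groth.Agent.Lib.PBDeg17.OfBdl
import Groth.Agent.Lib.Dim.Scheme
import Mathlib.RingTheory.KrullDimension.Polynomial

/-!
# Recognising projective bundles
-/

universe u

set_option autoImplicit false
set_option linter.all false
set_option backward.isDefEq.respectTransparency false

open CategoryTheory CategoryTheory.Limits AlgebraicGeometry TopologicalSpace Opposite

noncomputable section

namespace GrothLib.Sect28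

open GrothLib.PBDeg (quotAlong quotAlong_comp quotAlong_whisker HasCharts)

/-- The bundle given by relative Proj has the universal property. -/
theorem isProjBundle_bdl {X : Scheme.{u}} (B : VA.Bdl X) :
    ∃ a : (Scheme.Modules.pullback B.p).obj B.E ⟶ B.O, KRR.IsProjBundle B.p B.E B.O a := by
  let a := ((Scheme.Modules.pullbackPushforwardAdjunction B.p).homEquiv B.E B.O).symm B.can
  have hcan : ∀ (U : X.Opens) (hU : IsAffineOpen U) (e : Γ(B.E, U))
      (y : ↥(RelProj.emb B.p B.chart U hU ⁻¹ᵁ (B.p ⁻¹ᵁ U))),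
      GrTwist.val (V := RelProj.emb B.p B.chart U hU ⁻¹ᵁ (B.p ⁻¹ᵁ U))
          ((B.lam U hU).app (B.p ⁻¹ᵁ U) ((B.can.app U) e)) y =
        algebraMap (B.S.presheaf.obj (op U)) (GrTwist.Loc (B.S.deg U hU) y.1)
          ((B.j.app U) e : B.S.presheaf.obj (op U)) := fun U hU e y => B.isCanon ⟨U, hU⟩ e y.1 y.2
  have ha : Epi a := Groth.Agent.S5732.result B.E B.isQCoh B.S B.j B.isSym B.p B.chart B.isProj B.O B.lam B.isTwist B.can hcan
  refine ⟨a, PBDeg.rankOne_iff.2 B.isInvertible, ha, fun T g L hL s hs => ?_⟩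
  exact Groth.Agent.S5733.result B.E B.isQCoh B.S B.j B.isSym B.p B.chart B.isProj B.O B.lam B.isTwist B.can hcan
    (X := T) g L (PBDeg.rankOne_iff.1 hL) s hs

/-- A scheme isomorphic to a projective bundle over the base is one. -/
theorem isProjBundle_of_iso {S X P : Scheme.{u}} {π : X ⟶ S} {p : P ⟶ S} {E : S.Modules} {O : P.Modules}
    {a : (Scheme.Modules.pullback p).obj E ⟶ O} (hP : KRR.IsProjBundle p E O a) (r : X ⟶ P) [IsIso r]
    (hr : r ≫ p = π) {L : X.Modules} (hL : FlatMod.IsFinLocFreeOfRank 1 L)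
    (e : (Scheme.Modules.pullback r).obj O ≅ L) :
    KRR.IsProjBundle π E L (quotAlong E a r hr ≫ e.hom) := by
  refine ⟨hL, ?_, fun T g M hM s hs => ?_⟩
  · haveI := hP.epi
    haveI := Functor.preservesEpimorphisms_of_adjunction (Scheme.Modules.pullbackPushforwardAdjunction r)
    haveI : Epi ((Scheme.Modules.pullback r).map a) := inferInstance
    unfold quotAlong
    infer_instance
  obtain ⟨h, ⟨hg, e', he'⟩, huniq⟩ := hP.univ T g M hM s hs
  obtain ⟨h', rfl⟩ : ∃ h', h = h' ≫ r := ⟨h ≫ inv r, by simp⟩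
  have key : ∀ (h'' : T ⟶ X) (hw : h'' ≫ π = g) (hw' : (h'' ≫ r) ≫ p = g),
      quotAlong E (quotAlong E a r hr ≫ e.hom) h'' hw =
        quotAlong E a (h'' ≫ r) hw' ≫ (Scheme.Modules.pullbackComp h'' r).inv.app O ≫
          (Scheme.Modules.pullback h'').map e.hom := fun h'' hw hw' => by
    rw [quotAlong_whisker, ← quotAlong_comp E a r h'' hr hw hw', Category.assoc]
  have hw : h' ≫ π = g := by rw [← hr, ← Category.assoc]; exact hg
  refine ⟨h', ⟨hw, (Scheme.Modules.pullback h').mapIso e.symm ≪≫ (Scheme.Modules.pullbackComp h' r).app O ≪≫ e', ?_⟩,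
    fun h'' hh => ?_⟩
  · have h1 : quotAlong E (quotAlong E a r hr ≫ e.hom) h' hw ≫
        ((Scheme.Modules.pullback h').mapIso e.symm ≪≫ (Scheme.Modules.pullbackComp h' r).app O ≪≫ e').hom = s := by
      rw [key h' hw hg]
      simp only [Iso.trans_hom, Functor.mapIso_hom, Iso.symm_hom, Iso.app_hom, Category.assoc,
        ← Functor.map_comp_assoc, Iso.hom_inv_id, Functor.map_id, Category.id_comp]
      simp only [quotAlong, Category.assoc]
      erw [CategoryTheory.Functor.map_id, Category.id_comp, Iso.inv_hom_id_app_assoc]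
      exact he'
    simpa [quotAlong] using h1
  · obtain ⟨hw'', e'', he''⟩ := hh
    have hg'' : (h'' ≫ r) ≫ p = g := by rw [Category.assoc, hr, hw'']
    refine (cancel_mono r).1 (huniq (h'' ≫ r) ⟨hg'', (Scheme.Modules.pullbackComp h'' r).symm.app O ≪≫
      (Scheme.Modules.pullback h'').mapIso e ≪≫ e'', ?_⟩)
    have h1 : quotAlong E a (h'' ≫ r) hg'' ≫ ((Scheme.Modules.pullbackComp h'' r).symm.app O ≪≫
        (Scheme.Modules.pullback h'').mapIso e ≪≫ e'').hom = s := by
      have h2 : quotAlong E (quotAlong E a r hr ≫ e.hom) h'' hw'' ≫ e''.hom = s := by simpa [quotAlong] using he''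
      rw [key h'' hw'' hg''] at h2
      simpa [Category.assoc] using h2
    simpa [quotAlong] using h1

/-- A projective bundle over an integral base: integral, of dimension at most that of the base plus the rank. -/
theorem integral_of_hasCharts {S P : Scheme.{u}} [IsIntegral S] [IsLocallyNoetherian S] {p : P ⟶ S} {L : P.Modules}
    (hL : PicF.IsInvertible L) {m : ℕ} (hC : HasCharts p L m) {n : WithBot ℕ∞} (hdim : topologicalKrullDim S ≤ n) :
    IsIntegral P ∧ topologicalKrullDim P ≤ n + (m : WithBot ℕ∞) := by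
  let η := genericPoint S
  let C := fun z => (hC z).some
  have hne : ∀ z, Nonempty (C z).U := fun z => ⟨⟨z, (C z).mem⟩⟩
  have hdom : ∀ (z : S) (i : Fin (m + 1)), IsDomain (PBDeg.Dh Γ(S, (C z).U) i) := fun z i => by
    haveI := hne z
    infer_instance
  have h0 : (0 : Fin (m + 1)) ∉ (∅ : Finset (Fin (m + 1))) := Finset.notMem_empty _
  let ξ := (C η).pt ∅ h0
  have hcover : ∀ y : P, ∃ (z : S) (i : Fin (m + 1)) (q : PrimeSpectrum (PBDeg.Dh Γ(S, (C z).U) i)), (C z).c i q = y :=
    fun y => by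
      obtain ⟨i, q, hq⟩ := (C (p y)).exists_of_mem (y := y) rfl
      exact ⟨_, i, q, hq⟩
  have hgen : ∀ y : P, ξ ⤳ y := fun y => by
    obtain ⟨z, i, q, rfl⟩ := hcover y
    haveI := hdom z i
    haveI := hne z
    let o : PrimeSpectrum (PBDeg.Dh Γ(S, (C z).U) i) := ⟨⊥, Ideal.isPrime_bot⟩
    refine Specializes.trans ?_
      (Specializes.map ((PrimeSpectrum.le_iff_specializes o q).1 bot_le) ((C z).c i).continuous)
    refine (C η).pt_specializes hL ∅ h0 ?_ (fun j hj => absurd hj (Finset.notMem_empty j))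
    rw [(C z).p_c i o]
    have : (o.asIdeal.comap MvPolynomial.C) = (⊥ : Ideal Γ(S, (C z).U)) :=
      Ideal.comap_bot_of_injective _ (MvPolynomial.C_injective _ _)
    have hη : genericPoint S ∈ (C z).U := ((genericPoint_spec S).mem_open_set_iff (C z).U.2).2 ⟨z, trivial, (C z).mem⟩
    refine ((genericPoint_spec S).specializes trivial).antisymm ?_ |>.eq |>.symm
    obtain ⟨q', hq'⟩ := (C z).hU.range_fromSpec.ge hη
    refine (congrArg (fun w => _ ⤳ w) hq').mp ?_
    refine Specializes.map ((PrimeSpectrum.le_iff_specializes _ q').1 ?_) (C z).hU.fromSpec.continuous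
    show o.asIdeal.comap MvPolynomial.C ≤ q'.asIdeal
    rw [this]; exact bot_le
  haveI : Nonempty P := ⟨ξ⟩
  haveI : IrreducibleSpace P := by
    have h : IsGenericPoint ξ (Set.univ : Set P) :=
      Set.eq_univ_of_forall fun y => specializes_iff_mem_closure.1 (hgen y)
    refine (irreducibleSpace_def _).2 ?_
    show IsIrreducible (Set.univ : Set P)
    rw [← (h : closure {ξ} = Set.univ)]
    exact isIrreducible_singleton.closure
  let 𝒰 : P.OpenCover := Scheme.openCoverOfIsOpenCover P
    (fun w : Σ z : S, Fin (m + 1) => ((C w.1).c w.2).opensRange) (IsOpenCover.mk (eq_top_iff.2 fun y _ => by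
      obtain ⟨z, i, q, hq⟩ := hcover y
      exact Opens.mem_iSup.2 ⟨⟨z, i⟩, q, hq⟩))
  haveI : ∀ w, IsReduced (𝒰.X w) := fun w => by
    haveI := hdom w.1 w.2
    haveI : IsReduced (Spec (CommRingCat.of (PBDeg.Dh Γ(S, (C w.1).U) w.2))) := inferInstance
    exact isReduced_of_isOpenImmersion ((C w.1).c w.2).isoOpensRange.inv
  haveI : IsReduced P := IsReduced.of_openCover P 𝒰
  refine ⟨isIntegral_of_irreducibleSpace_of_isReduced P, ?_⟩
  refine Dim.topologicalKrullDim_le_of_cover (fun w : Σ z : S, Fin (m + 1) => ((C w.1).c w.2).opensRange) (fun y => by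
    obtain ⟨z, i, q, hq⟩ := hcover y
    exact ⟨⟨z, i⟩, q, hq⟩) fun w => ?_
  haveI : IsNoetherianRing Γ(S, (C w.1).U) := IsLocallyNoetherian.component_noetherian ⟨_, (C w.1).hU⟩
  haveI := hne w.1
  refine le_of_eq_of_le (Dim.IsEmbedding.topologicalKrullDim_eq ((C w.1).c w.2).isOpenEmbedding.isEmbedding
    (S := (((C w.1).c w.2).opensRange : Set P)) rfl).symm ?_
  show topologicalKrullDim (PrimeSpectrum (PBDeg.Dh Γ(S, (C w.1).U) w.2)) ≤ n + (m : WithBot ℕ∞)
  rw [PrimeSpectrum.topologicalKrullDim_eq_ringKrullDim, MvPolynomial.ringKrullDim_of_isNoetherianRing,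
    ← Dim.topologicalKrullDim_affineOpen (C w.1).hU]
  have hc : Nat.card {j : Fin (m + 1) // j ≠ w.2} = m := by
    rw [Nat.card_eq_fintype_card, Fintype.card_subtype_compl, Fintype.card_fin, Fintype.card_subtype_eq, Nat.add_sub_cancel]
  rw [hc]
  calc topologicalKrullDim ((C w.1).U) + ((m : ℕ) : WithBot ℕ∞)
      ≤ n + ((m : ℕ) : WithBot ℕ∞) := add_le_add
        (((C w.1).U.2.isOpenEmbedding_subtypeVal.isEmbedding.isInducing.topologicalKrullDim_le).trans hdim) le_rfl
    _ = n + (m : WithBot ℕ∞) := rfl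

end GrothLib.Sect28
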