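import Groth.Agent.Lib.Sect28.Main
import Groth.Agent.Lib.ASBun21.StablyBirational
import Groth.Agent.S9680
import Groth.Agent.Lib.CurveMult.GenusZero
import Groth.Agent.Lib.CurveProd28.Basic
import Groth.Agent.Lib.LefPic7.Colim
import Groth.Agent.Lib.CurveMult.OmegaField
import Groth.Agent.Lib.SmCurveFam.DegreeOne
import Groth.Agent.Lib.Seesaw26.Scheme

/-!
# Fibrations in genus zero curves are birational to a product with the line
-/

universe u

set_option autoImplicit false
set_option linter.all false
set_option backward.isDefEq.respectTransparency false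
set_option maxHeartbeats 1000000

open CategoryTheory CategoryTheory.Limits AlgebraicGeometry TopologicalSpace

noncomputable section

namespace GrothLib.Sect28

/-- A curve of genus zero with a rational point is the line. -/
theorem exists_iso_P1_of_point (K : Type u) [Field K] {F : Scheme.{u}} [F.Over (Spec (CommRingCat.of K))]
    [IsProper (F ↘ Spec (CommRingCat.of K))] [Smooth (F ↘ Spec (CommRingCat.of K))] [IsIntegral F]
    (hdim : topologicalKrullDim F = 1) (h1 : Subsingleton (Coh.HH F (Coh.structureModule F) 1))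
    (s : Spec (CommRingCat.of K) ⟶ F) (hs : s ≫ F ↘ Spec (CommRingCat.of K) = 𝟙 _) :
    ∃ e : F ≅ CohB1.ProjSpace 1 K, e.hom ≫ CohB1.ProjSpace.toSpec 1 K = F ↘ Spec (CommRingCat.of K) := by
  haveI := CurveRR.regCurve_of_smooth (F ↘ Spec (CommRingCat.of K)) hdim
  haveI : IsClosedImmersion s := CurveProd28.isClosedImmersion_pt K s hs
  have hI := CurveProd28.isInvertible_pt K hdim s hs
  obtain ⟨L, hL, hcls⟩ := LefPic7.exists_rep ((Cube.clsMod hI)⁻¹)
  obtain ⟨e2⟩ := (Cube.clsMod_eq_one_iff (Ample.isInvertible_tensorMod hL hI)).1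
    ((Cube.clsMod_tensorMod hL hI).trans (by rw [hcls, inv_mul_cancel]))
  have hd := CurveMult.deg_tensorMod K hdim.le hL hI
  rw [Euler.deg_of_iso K e2, CurveProd28.deg_idealMod_pt K hdim s hs, Curv2.deg] at hd
  simp only [Nat.cast_one, one_mul, sub_self] at hd
  exact CurveMult.exists_iso_P1 K hdim h1 hL (by omega)

variable (k : Type u) [Field k] [IsAlgClosed k] {X B : Scheme.{u}} [X.Over (Spec (CommRingCat.of k))]
  [B.Over (Spec (CommRingCat.of k))] [IsProper (X ↘ Spec (CommRingCat.of k))] [IsIntegral X]
  [IsProper (B ↘ Spec (CommRingCat.of k))] [Smooth (B ↘ Spec (CommRingCat.of k))] [IsIntegral B]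

/-- A fibration with generic fibre a curve of genus zero is birational to a product with the line. -/
theorem birationalOver_prod (hdim : topologicalKrullDim X = 2) (hdimB : topologicalKrullDim B = 1) (π : X ⟶ B)
    (hπ : π ≫ B ↘ Spec (CommRingCat.of k) = X ↘ Spec (CommRingCat.of k)) (hsurj : Function.Surjective π)
    [GeometricallyIntegral (π.fiberToSpecResidueField (genericPoint B))]
    (hg : letI : (π.fiber (genericPoint B)).Over (Spec (B.residueField (genericPoint B))) :=
        ⟨π.fiberToSpecResidueField (genericPoint B)⟩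
      Curv2.genus (B.residueField (genericPoint B)) (π.fiber (genericPoint B)) = 0) :
    Scheme.BirationalOver π (pullback.fst (B ↘ Spec (CommRingCat.of k)) (CohB1.ProjSpace.toSpec 1 k)) := by
  haveI : IsProper π := by
    haveI : IsProper (π ≫ B ↘ Spec (CommRingCat.of k)) := by rw [hπ]; infer_instance
    exact IsProper.of_comp π (B ↘ Spec (CommRingCat.of k))
  haveI := Euler.isNoetherian_of_proper (X := B) k
  set η := genericPoint B
  letI : (π.fiber η).Over (Spec (CommRingCat.of (B.residueField η))) := ⟨π.fiberToSpecResidueField η⟩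
  haveI : IsProper ((π.fiber η) ↘ Spec (CommRingCat.of (B.residueField η))) :=
    inferInstanceAs (IsProper (pullback.snd π (B.fromSpecResidueField η)))
  haveI : GeometricallyIntegral ((π.fiber η) ↘ Spec (CommRingCat.of (B.residueField η))) :=
    ‹GeometricallyIntegral (π.fiberToSpecResidueField η)›
  haveI : IsIntegral (π.fiber η) :=
    GeometricallyIntegral.isIntegral_of_subsingleton (f := (π.fiber η) ↘ Spec (CommRingCat.of (B.residueField η)))
  have hdF := dim_genericFibre k π hsurj hdim hdimB
  haveI := smooth_of_genus_zero (B.residueField η) hdF hg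
  haveI := CurveRR.regCurve_of_smooth ((π.fiber η) ↘ Spec (CommRingCat.of (B.residueField η))) hdF
  haveI := Rigidity.geometricallyConnected_of_geometricallyIrreducible
    ((π.fiber η) ↘ Spec (CommRingCat.of (B.residueField η)))
  obtain ⟨-, h0⟩ := CurveMult.OmegaField.integral_and_h0 (B.residueField η) (π.fiber η)
  have hC : Curves.IsCi (B.residueField η) 1 := isCi_residueField k η (by
    rw [(genericPoint_spec B : closure {η} = Set.univ)]
    exact (IsHomeomorph.topologicalKrullDim_eq _ (Homeomorph.Set.univ B).isHomeomorph).trans hdimB)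
  obtain ⟨s, hs⟩ := exists_rational_point (B.residueField η) (X := π.fiber η) hdF h0 hg hC
  haveI := Euler.finiteDimensional_HH (X := π.fiber η) (B.residueField η)
    (Euler.isCoh_of_isInvertible Euler.isInvertible_structure) 1
  obtain ⟨i, hi⟩ := exists_iso_P1_of_point (B.residueField η) hdF (Module.finrank_zero_iff.1 hg) s hs
  let K := B.residueField η
  let gB := B ↘ Spec (CommRingCat.of k)
  let t : Spec (CommRingCat.of K) ⟶ Spec (CommRingCat.of k) := B.fromSpecResidueField η ≫ gB
  let q := pullback.fst gB (CohB1.ProjSpace.toSpec 1 k)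
  let m : CohB1.ProjSpace 1 K ⟶ CohB1.ProjSpace 1 k :=
    (ProjPic26.isPullback_chi 1 k).lift (ProjPic26.chi 1 K) (CohB1.ProjSpace.toSpec 1 K ≫ t)
      ((ProjPic26.isPullback_chi 1 K).w.trans (by
        rw [Category.assoc]; exact congrArg _ (specULiftZIsTerminal.hom_ext _ _)))
  have hm : IsPullback m (CohB1.ProjSpace.toSpec 1 K) (CohB1.ProjSpace.toSpec 1 k) t := by
    refine IsPullback.of_right ?_ (IsPullback.lift_snd _ _ _ _) (ProjPic26.isPullback_chi 1 k)
    rw [IsPullback.lift_fst,
      show t ≫ specULiftZIsTerminal.from (Spec (CommRingCat.of k)) = specULiftZIsTerminal.from _ from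
        specULiftZIsTerminal.hom_ext _ _]
    exact ProjPic26.isPullback_chi 1 K
  let h0' : CohB1.ProjSpace 1 K ⟶ pullback gB (CohB1.ProjSpace.toSpec 1 k) :=
    pullback.lift (CohB1.ProjSpace.toSpec 1 K ≫ B.fromSpecResidueField η) m
      (by rw [Category.assoc]; exact hm.w.symm)
  have hW : IsPullback h0' (CohB1.ProjSpace.toSpec 1 K) q (B.fromSpecResidueField η) := by
    refine IsPullback.of_right ?_ (pullback.lift_fst _ _ _) (IsPullback.of_hasPullback gB _).flip
    rw [pullback.lift_snd]
    exact hm
  haveI : IsPreimmersion h0' := MorphismProperty.of_isPullback (P := @IsPreimmersion) hW.flip inferInstance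
  haveI : GeometricallyIntegral (CohB1.ProjSpace.toSpec 1 k) :=
    ASBun21.geometricallyIntegral_of_splitting (ASBun21.nonempty_splitting_projSpace (k := k) 1 k).some
  haveI : IsProper (CohB1.ProjSpace.toSpec 1 k) := Chow.isProper_toSpec 1 k
  haveI : Smooth (CohB1.ProjSpace.toSpec 1 k) := CurveMult.smooth_toSpec 1 k
  haveI : GeometricallyIntegral q := inferInstanceAs (GeometricallyIntegral (pullback.fst _ _))
  haveI : IsProper q := inferInstanceAs (IsProper (pullback.fst _ _))
  haveI : Smooth q := MorphismProperty.pullback_fst (P := @Smooth) _ _ inferInstance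
  haveI : IsIntegral (pullback gB (CohB1.ProjSpace.toSpec 1 k)) :=
    GeometricallyIntegral.isIntegral_of_isLocallyNoetherian (f := q)
  let h := i.hom ≫ h0'
  have hhq : h ≫ q = π.fiberι η ≫ π := by
    rw [Category.assoc, hW.w, ← Category.assoc, hi]
    exact pullback.condition.symm
  have hηX : genericPoint X ∈ Set.range (π.fiberι η) := by
    rw [Scheme.Hom.range_fiberι]
    obtain ⟨w, hw⟩ := hsurj η
    have h := (genericPoint_specializes (α := X) w).map π.continuous
    rw [hw] at h
    exact (h.antisymm (genericPoint_specializes _)).eq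
  have hηW : genericPoint (pullback gB (CohB1.ProjSpace.toSpec 1 k) : Scheme.{u}) ∈ Set.range h := by
    have hq : q (genericPoint (pullback gB (CohB1.ProjSpace.toSpec 1 k) : Scheme.{u})) = η := by
      obtain ⟨w, hw⟩ := q.surjective η
      have h := (genericPoint_specializes w).map q.continuous
      rw [hw] at h
      exact (h.antisymm (genericPoint_specializes _)).eq
    obtain ⟨z, hz⟩ : genericPoint (pullback gB (CohB1.ProjSpace.toSpec 1 k) : Scheme.{u}) ∈
        Set.range (q.fiberι η) := by
      rw [Scheme.Hom.range_fiberι]; exact hq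
    refine ⟨i.inv (hW.isoPullback.inv z), ?_⟩
    rw [← hz, ← Scheme.Hom.comp_apply, ← Scheme.Hom.comp_apply]
    have : hW.isoPullback.inv ≫ i.inv ≫ h = q.fiberι η := by
      simp only [h, Iso.inv_hom_id_assoc]
      exact hW.isoPullback_inv_fst
    exact congr($this z)
  let L := (π.fiber η).functionField
  let p := (π.fiber η).fromSpecStalk (genericPoint (π.fiber η))
  have hp : ∀ {Z : Scheme.{u}} [IrreducibleSpace Z] (g : π.fiber η ⟶ Z), genericPoint Z ∈ Set.range g →
      genericPoint Z ∈ Set.range (p ≫ g) := fun g hz => by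
    refine ⟨IsLocalRing.closedPoint _, ?_⟩
    rw [Scheme.Hom.comp_apply, Scheme.fromSpecStalk_closedPoint]
    exact ASBun21.map_genericPoint_of_mem_range g hz
  obtain ⟨eX, heX⟩ := ASBun21.exists_iso_of_point (L := L) (p ≫ π.fiberι η) (hp _ hηX)
  obtain ⟨eW, heW⟩ := ASBun21.exists_iso_of_point (L := L) (p ≫ h) (hp _ hηW)
  have hsη : π (genericPoint X) = q (genericPoint (pullback gB (CohB1.ProjSpace.toSpec 1 k) : Scheme.{u})) := by
    rw [← ASBun21.map_genericPoint_of_mem_range _ hηX, ← ASBun21.map_genericPoint_of_mem_range _ hηW,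
      ← Scheme.Hom.comp_apply, ← Scheme.Hom.comp_apply, hhq]
  refine (Groth.Agent.S9680.result π q).2 ⟨hsη, eX ≪≫ eW.symm,
    (SpreadLfp9.stalk_compat_iff π q hsη (eX ≪≫ eW.symm).hom).2 ?_⟩
  have h1 : Spec.map eX.hom ≫ X.fromSpecStalk (genericPoint X) ≫ π = Spec.map eW.hom ≫
      (pullback gB (CohB1.ProjSpace.toSpec 1 k) : Scheme.{u}).fromSpecStalk (genericPoint _) ≫ q := by
    rw [← Category.assoc, heX, ← Category.assoc (Spec.map eW.hom), heW, Category.assoc, Category.assoc, hhq]
  rw [Iso.trans_hom, Iso.symm_hom, Spec.map_comp, Category.assoc]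
  refine (congrArg (Spec.map eW.inv ≫ ·) h1).trans ?_
  rw [← Category.assoc, ← Spec.map_comp, Iso.hom_inv_id, Spec.map_id, Category.id_comp]

end GrothLib.Sect28
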