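import Groth.Agent.Lib.Sect28.BdlGen
import Groth.Agent.Lib.SmCurveFam.DegreeOne
import Groth.Agent.Lib.SmCurveFam.DegAmple
import Groth.Agent.Lib.SmCurveFam.DegreeOnePush
import Groth.Agent.Lib.FibVA11.Main
import Groth.Agent.Lib.LefPic7.Colim
import Groth.Agent.Lib.CurveMult.GenusZero
import Groth.Agent.Lib.CurveMult.NefGenusZero
import Groth.Agent.Lib.FibreFlat.Fibrewise
import Groth.Agent.Lib.CurvePoints.Basic

/-!
# Families of lines with a bundle of degree one are projective bundles
-/

universe u

set_option autoImplicit false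
set_option linter.all false
set_option backward.isDefEq.respectTransparency false
set_option maxHeartbeats 1000000

open CategoryTheory CategoryTheory.Limits AlgebraicGeometry TopologicalSpace Opposite

noncomputable section

namespace GrothLib.Sect28

variable {C B : Scheme.{u}} (f : C ⟶ B) [IsProper f] [Smooth f] [GeometricallyConnected f]
  (hd : ∀ y, topologicalKrullDim (f.fiber y) = 1)
  (hg : ∀ y, Subsingleton (Coh.HH (f.fiber y) (Coh.structureModule (f.fiber y)) 1))

/-- The degree of a bundle on a fibre. -/
abbrev fibDeg (L : C.Modules) (y : B) : ℤ :=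
  letI : (f.fiber y).Over (Spec (B.residueField y)) := ⟨f.fiberToSpecResidueField y⟩
  Curv2.deg (B.residueField y) (f.fiber y) (CohIII.fiberMod f L y) 1

include hd hg in
/-- Bundles of degree one on the fibres of a family of lines. -/
theorem fibre_facts {L : C.Modules} (hL : PicF.IsInvertible L) (hdeg : ∀ y, fibDeg f L y = 1) :
    (∀ y, RelAmple.IsRelVeryAmplePn (f.fiberToSpecResidueField y) ((Scheme.Modules.pullback (f.fiberι y)).obj L)) ∧
      (∀ y, Subsingleton (Coh.HH (f.fiber y) ((Scheme.Modules.pullback (f.fiberι y)).obj L) 1)) ∧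
      ∀ y, CohIII.fiberRank f L 0 y = 2 := by
  refine ⟨fun y => ?_, fun y => ?_, fun y => ?_⟩
  all_goals
    obtain ⟨h1, h2, h3, h4⟩ := SmCurveFam.fiber_props f y
    letI : (f.fiber y).Over (Spec (CommRingCat.of (B.residueField y))) := ⟨f.fiberToSpecResidueField y⟩
    haveI : IsProper (f.fiber y ↘ Spec (CommRingCat.of (B.residueField y))) := h1
    haveI : Smooth (f.fiber y ↘ Spec (CommRingCat.of (B.residueField y))) := h2
    haveI : GeometricallyConnected (f.fiber y ↘ Spec (CommRingCat.of (B.residueField y))) := h3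
    haveI := h4
    obtain ⟨-, h0⟩ := CurveMult.OmegaField.integral_and_h0 (B.residueField y) (f.fiber y)
    haveI := CurveRR.regCurve_of_smooth (f.fiber y ↘ Spec (CommRingCat.of (B.residueField y))) (hd y)
    have hM : PicF.IsInvertible (CohIII.fiberMod f L y) := Ample.isInvertible_pullback _ hL
    have hdy : Curv2.deg (B.residueField y) (f.fiber y) (CohIII.fiberMod f L y) 1 = 1 := hdeg y
  · obtain ⟨i, hi, hif, ⟨e⟩⟩ := CurveMult.exists_closedImmersion_of_genus_zero (B.residueField y) (hd y) h0 (hg y)
      hM 1 Nat.one_pos (by simpa using hdy)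
    haveI := hi
    refine VA.isRelVeryAmplePn_of_isRelVeryAmple _ hM (VA.isRelVeryAmple_of_iso e ?_)
    have h := VA.isRelVeryAmple_precomp i (VA.isRelVeryAmple_projSpace 1 (B.residueField y))
    rw [hif] at h
    exact h
  · exact (CurveMult.nef_of_genus_zero_integral (B.residueField y) (hd y).le (hg y) hM (by rw [hdy]; norm_num)).1
  · haveI := Euler.isNoetherian_of_proper (X := f.fiber y) (B.residueField y)
    haveI := (CurveMult.nef_of_genus_zero_integral (B.residueField y) (hd y).le (hg y) hM (by rw [hdy]; norm_num)).1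
    haveI := hg y
    haveI := InvExt.isQuasicoherent_of_isInvertible hM
    haveI := InvExt.isQuasicoherent_of_isInvertible hL
    haveI := Cohom.isQuasicoherent_structureModule (f.fiber y)
    have e1 := Euler.euler_eq_sub (B.residueField y) (hd y).le (CohIII.fiberMod f L y)
    have e0 := Euler.euler_eq_sub (B.residueField y) (hd y).le (Coh.structureModule (f.fiber y))
    rw [Module.finrank_zero_of_subsingleton (R := B.residueField y) (M := Coh.HH (f.fiber y) (CohIII.fiberMod f L y) 1)] at e1
    rw [h0, Module.finrank_zero_of_subsingleton (R := B.residueField y)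
      (M := Coh.HH (f.fiber y) (Coh.structureModule (f.fiber y)) 1)] at e0
    rw [(SmCurveFam.fiberRank_congr f L 0 y (Iso.refl _)).1]
    rw [Curv2.deg] at hdy
    push_cast at e0 e1 hdy
    omega

include hd hg in
/-- A family of lines with a bundle of degree one is the projective bundle of its direct image. -/
theorem exists_bundle_of_deg_one {L : C.Modules} (hL : PicF.IsInvertible L) (hdeg : ∀ y, fibDeg f L y = 1) :
    ∃ (E : B.Modules) (q : (Scheme.Modules.pullback f).obj E ⟶ L),
      FlatMod.IsFinLocFreeOfRank 2 E ∧ KRR.IsProjBundle f E L q := by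
  obtain ⟨hva, hH1, hrk⟩ := fibre_facts f hd hg hL hdeg
  haveI : L.IsQuasicoherent := InvExt.isQuasicoherent_of_isInvertible hL
  haveI : Coh.IsQCoh L := InvExt.isQuasicoherent_of_isInvertible hL
  have hFP : CohB1.IsFP L := LocFree8.isFP_of_isFinLocFree L (Euler.isFinLocFree_of_isInvertible hL)
  have hfl : FlatMod.IsFlatOver f L := Seesaw26.isFlatOver_of_isInvertible f hL
  have hG : ∀ s : B, BCCrit.GoodAll f L ((0 : ℕ) : ℤ) s := fun s => by
    have h := (BCCrit.goodAll_of_fiberRank_eq_zero (f := f) (F := L) 1 s
      ((BCCrit.subsingleton_fiberH_iff hFP hfl 1 s).1 (hH1 s))).2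
    simpa using h
  have hfree : FlatMod.IsFinLocFreeOfRank 2 ((Scheme.Modules.pushforward f).obj L) := fun s => by
    obtain ⟨U, n, hsU, hφ, hn⟩ := BCCrit.exists_free_near0 hFP hfl s (hG s)
    obtain rfl : n = 2 := (hn s hsU).symm.trans (hrk s)
    exact ⟨U, hsU, hφ⟩
  have hcoh : Coh.IsCoh ((Scheme.Modules.pushforward f).obj L) := Euler.isCoh_of_isFinLocFree fun s => by
    obtain ⟨U, hsU, hφ⟩ := hfree s
    exact ⟨U, 2, hsU, hφ⟩
  obtain ⟨D, hD⟩ := VA.exists_bdl ((Scheme.Modules.pushforward f).obj L) hcoh.1
  let φ : D.E ⟶ (Scheme.Modules.pushforward f).obj L := eqToHom hD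
  have hφ : ∀ U : B.Opens, IsAffineOpen U → Function.Surjective (φ.app U) := fun U _ =>
    (ConcreteCategory.bijective_of_isIso (φ.app U)).2
  obtain ⟨r, θ, h⟩ := VA.Bdl.exists_lift (B := D) (g := f) (φ := φ) (FibVA11.isGenBy_of_fibre f hL hva hH1 φ hφ)
  have hE : FlatMod.IsFinLocFreeOfRank 2 D.E := by rw [hD]; exact hfree
  have hft : CohB1.IsFT D.E := by rw [hD]; exact hcoh.2
  haveI : IsProper D.p := by
    have h0 := VA.isProjective_of_isClosedImmersion_bundle D.isQCoh hft D.isSym D.isProj (𝟙 D.P)
    rw [Category.id_comp] at h0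
    exact ProjAlg.isProper_of_isProjective h0
  haveI : IsClosedImmersion r := by
    have hy : ∀ y : B, ∃ U : B.Opens, y ∈ U ∧ IsClosedImmersion (r ∣_ (D.p ⁻¹ᵁ U)) := fun y => by
      refine (Groth.Agent.S10861.result r f D.p h.comp y).2 ?_
      haveI := FibVA11.mono_fiberMapOver f hL hva hH1 h hφ y
      haveI : IsProper (CohIII.fiberMapOver r f D.p h.comp y) := by
        haveI : IsProper (pullback.snd f (B.fromSpecResidueField y)) := inferInstance
        haveI : IsProper (CohIII.fiberMapOver r f D.p h.comp y ≫ pullback.snd D.p (B.fromSpecResidueField y)) := by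
          simp only [CohIII.fiberMapOver, pullback.lift_snd, Category.comp_id]
          infer_instance
        exact MorphismProperty.of_postcomp @IsProper (CohIII.fiberMapOver r f D.p h.comp y)
          (pullback.snd D.p (B.fromSpecResidueField y)) (inferInstance : IsSeparated _) this
      exact (IsClosedImmersion.iff_isProper_and_mono _).2 ⟨inferInstance, inferInstance⟩
    choose U hyU hU using hy
    refine IsZariskiLocalAtTarget.of_iSup_eq_top (P := @IsClosedImmersion) (fun y => D.p ⁻¹ᵁ U y)
      (eq_top_iff.2 fun z _ => Opens.mem_iSup.2 ⟨D.p z, hyU (D.p z)⟩) hU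
  have hC := PBDeg.hasCharts_of_bdl D hE
  haveI : IsIso r := by
    haveI : Flat (r ≫ D.p) := by rw [h.comp]; infer_instance
    haveI : LocallyOfFinitePresentation (r ≫ D.p) := by rw [h.comp]; infer_instance
    refine FibreFlat.isIso_of_fibrewise r D.p fun s => ?_
    obtain ⟨hint, hdP⟩ := integral_of_hasCharts
      (Ample.isInvertible_pullback (pullback.fst D.p (B.fromSpecResidueField s)) D.isInvertible)
      (hC.baseChange D.isInvertible (IsPullback.of_hasPullback D.p (B.fromSpecResidueField s)) (Iso.refl _))
      (n := 0) CurveMult.IdealCrit.dim_le_zero_of_finite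
    haveI : IsIntegral (D.p.fiber s) := hint
    let i := pullback.snd r (D.p.fiberι s)
    haveI : IsClosedImmersion i := MorphismProperty.pullback_snd _ _ inferInstance
    let e : pullback r (D.p.fiberι s) ≅ f.fiber s :=
      pullbackRightPullbackFstIso D.p (B.fromSpecResidueField s) r ≪≫ pullback.congrHom h.comp rfl
    obtain ⟨-, -, -, h4⟩ := SmCurveFam.fiber_props f s
    haveI := h4
    haveI : Nonempty ↥(pullback r (D.p.fiberι s)) := ⟨e.inv (genericPoint (f.fiber s))⟩
    haveI : IsIntegral (pullback r (D.p.fiberι s)) := isIntegral_of_isOpenImmersion e.hom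
    have hdZ : topologicalKrullDim ↥(pullback r (D.p.fiberι s)) = 1 :=
      (Scheme.homeoOfIso e).isHomeomorph.topologicalKrullDim_eq.trans (hd s)
    haveI : Surjective i := ⟨fun y => by
      have hη : i (genericPoint ↥(pullback r (D.p.fiberι s))) = genericPoint (D.p.fiber s) := by
        by_contra hne
        have hcl : IsClosed ({i (genericPoint ↥(pullback r (D.p.fiberι s)))} : Set (D.p.fiber s)) :=
          CurvePoints.isClosed_singleton (hdP.trans_eq (by norm_num)) hne
        have hall : ∀ x, x = genericPoint ↥(pullback r (D.p.fiberι s)) := fun x => i.isClosedEmbedding.injective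
          (Set.mem_singleton_iff.1 ((((genericPoint_spec _).specializes trivial).map i.continuous).mem_closed hcl
            (Set.mem_singleton _)))
        haveI : Subsingleton ↥(pullback r (D.p.fiberι s)) := ⟨fun a b => (hall a).trans (hall b).symm⟩
        haveI : DiscreteTopology ↥(pullback r (D.p.fiberι s)) := inferInstance
        have h1 := hdZ.symm.trans_le (topologicalKrullDim_zero_of_discreteTopology _)
        exact absurd h1 (by decide)
      exact ((genericPoint_spec (D.p.fiber s)).specializes trivial).mem_closed i.isClosedMap.isClosed_range ⟨_, hη⟩⟩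
    exact isIso_of_isClosedImmersion_of_surjective i
  haveI := h.isIso_symm
  obtain ⟨a, ha⟩ := isProjBundle_bdl D
  exact ⟨D.E, _, hE, isProjBundle_of_iso ha r h.comp (PBDeg.rankOne_iff.2 hL)
    (asIso (((Scheme.Modules.pullbackPushforwardAdjunction r).homEquiv D.O L).symm θ))⟩

end GrothLib.Sect28
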