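import Groth.Agent.Lib.Sect28.BdlGen
import Groth.Agent.Lib.HilbStrat10.Transfer
import Groth.Agent.Lib.ASBun21.HorrocksGen
import Groth.Agent.Lib.PBDeg17.VBInj
import Groth.Agent.Lib.HodgeIndex.Pullback
import Groth.Agent.Lib.OX.OneDegLocus
import Groth.Agent.Lib.HodgeIndex.Fibration

/-!
# Splitting a projective bundle of lines along two disjoint sections
-/

universe u

set_option autoImplicit false
set_option linter.all false
set_option backward.isDefEq.respectTransparency false
set_option maxHeartbeats 1000000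

open CategoryTheory CategoryTheory.Limits AlgebraicGeometry TopologicalSpace Opposite

noncomputable section

namespace GrothLib.Sect28

open GrothLib.PBDeg (quotAlong quotAlong_comp quotAlong_whisker)

/-- Transport of a projective bundle along an isomorphism of the bundles. -/
theorem isProjBundle_of_iso_bundle {S P : Scheme.{u}} {p : P ⟶ S} {E E' : S.Modules} {O : P.Modules}
    {a : (Scheme.Modules.pullback p).obj E ⟶ O} (hP : KRR.IsProjBundle p E O a) (α : E' ≅ E) :
    KRR.IsProjBundle p E' O ((Scheme.Modules.pullback p).map α.hom ≫ a) := by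
  have key : ∀ {T : Scheme.{u}} (h : T ⟶ P) {g : T ⟶ S} (hg : h ≫ p = g),
      quotAlong E' ((Scheme.Modules.pullback p).map α.hom ≫ a) h hg =
        (Scheme.Modules.pullback g).map α.hom ≫ quotAlong E a h hg := fun {T} h {g} hg => by
    subst hg
    simp only [quotAlong, Functor.map_comp]
    erw [← NatTrans.naturality_assoc, ← NatTrans.naturality_assoc]
  refine ⟨hP.invertible, ?_, fun T g M hM s hs => ?_⟩
  · haveI := hP.epi
    infer_instance
  haveI : Epi ((Scheme.Modules.pullback g).map α.inv ≫ s) := inferInstance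
  obtain ⟨h, ⟨hg, e, he⟩, hu⟩ := hP.univ T g M hM ((Scheme.Modules.pullback g).map α.inv ≫ s) inferInstance
  have hk : ∀ (h : T ⟶ P) (hg : h ≫ p = g) (e : (Scheme.Modules.pullback h).obj O ≅ M),
      quotAlong E' ((Scheme.Modules.pullback p).map α.hom ≫ a) h hg ≫ e.hom = s ↔
        quotAlong E a h hg ≫ e.hom = (Scheme.Modules.pullback g).map α.inv ≫ s := fun h hg e => by
    rw [key h hg, Category.assoc]
    constructor
    · intro he
      rw [← he, ← Functor.map_comp_assoc, Iso.inv_hom_id, CategoryTheory.Functor.map_id, Category.id_comp]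
    · intro he
      rw [he, ← Functor.map_comp_assoc, Iso.hom_inv_id, CategoryTheory.Functor.map_id, Category.id_comp]
  refine ⟨h, ⟨hg, e, ?_⟩, fun h' hh => ?_⟩
  · have := (hk h hg e).2 (by simpa [quotAlong] using he)
    simpa [quotAlong] using this
  · obtain ⟨hg', e', he'⟩ := hh
    refine hu h' ⟨hg', e', ?_⟩
    have := (hk h' hg' e').1 (by simpa [quotAlong] using he')
    simpa [quotAlong] using this

/-- A nonzero map to an invertible module on the spectrum of a field is an epimorphism. -/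
theorem epi_of_ne_zero {K : Type u} [Field K] {N M : (Spec (CommRingCat.of K)).Modules}
    (hM : FlatMod.IsFinLocFreeOfRank 1 M) (φ : N ⟶ M) (h : φ ≠ 0) : Epi φ := by
  refine (OX.epi_iff φ).2 fun x => (ModuleCat.epi_iff_surjective _).2 ?_
  haveI : Subsingleton ↥(Spec (CommRingCat.of K)) := inferInstanceAs (Subsingleton (PrimeSpectrum K))
  obtain ⟨b⟩ := OmegaFree.exists_basis_stalk hM x
  obtain ⟨v, hv⟩ : ∃ v, QCoh.stalkLin φ x v ≠ 0 := by
    by_contra! hall
    refine h ((OX.eq_zero_iff φ).2 fun y => ?_)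
    obtain rfl := Subsingleton.elim x y
    exact ModuleCat.hom_ext (LinearMap.ext hall)
  have hle : x.asIdeal.primeCompl ≤ IsUnit.submonoid K := fun a ha => by
    refine isUnit_iff_ne_zero.2 fun h0 => ha ?_
    rw [h0]
    exact Ideal.zero_mem _
  have hK : IsField (Localization.AtPrime x.asIdeal) :=
    MulEquiv.isField (Field.toIsField K) (IsLocalization.atUnits K x.asIdeal.primeCompl hle).toRingEquiv.toMulEquiv.symm
  have hF : IsField ((Spec (CommRingCat.of K)).presheaf.stalk x) :=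
    MulEquiv.isField hK (Spec.stalkIso (CommRingCat.of K) x).commRingCatIsoToRingEquiv.toMulEquiv
  intro z
  have hc : b.repr (QCoh.stalkLin φ x v) 0 ≠ 0 := fun h0 => hv (b.repr.injective (Finsupp.ext fun i => by
    rw [Subsingleton.elim i 0, h0]; simp))
  obtain ⟨c, hcc⟩ := hF.mul_inv_cancel hc
  refine ⟨(b.repr z 0 * c) • v, ?_⟩
  show QCoh.stalkLin φ x ((b.repr z 0 * c) • v) = z
  rw [map_smul]
  refine b.repr.injective (Finsupp.ext fun i => ?_)
  rw [Subsingleton.elim i 0, map_smul, Finsupp.smul_apply, smul_eq_mul, mul_assoc, mul_comm c, hcc, mul_one]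

/-- Two sections with disjoint images split the bundle. -/
theorem exists_split {C B : Scheme.{u}} {f : C ⟶ B} {E : B.Modules} {O1 : C.Modules}
    {q : (Scheme.Modules.pullback f).obj E ⟶ O1} (hE : FlatMod.IsFinLocFreeOfRank 2 E)
    (hP : KRR.IsProjBundle f E O1 q) (s₁ s₂ : B ⟶ C) (hs₁ : s₁ ≫ f = 𝟙 B) (hs₂ : s₂ ≫ f = 𝟙 B)
    (hdisj : Disjoint (Set.range s₁) (Set.range s₂)) :
    Nonempty (E ≅ ((Scheme.Modules.pullback s₁).obj O1 ⊞ (Scheme.Modules.pullback s₂).obj O1)) := by
  let L₁ := (Scheme.Modules.pullback s₁).obj O1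
  let L₂ := (Scheme.Modules.pullback s₂).obj O1
  have hL : ∀ {T : Scheme.{u}} (g : T ⟶ C), FlatMod.IsFinLocFreeOfRank 1 ((Scheme.Modules.pullback g).obj O1) :=
    fun g => PBDeg.rankOne_iff.2 (Ample.isInvertible_pullback g (PBDeg.rankOne_iff.1 hP.invertible))
  haveI := hP.epi
  let a₁ : E ⟶ L₁ := (Scheme.Modules.pullbackId B).inv.app E ≫ quotAlong E q s₁ hs₁
  let a₂ : E ⟶ L₂ := (Scheme.Modules.pullbackId B).inv.app E ≫ quotAlong E q s₂ hs₂
  let φ : E ⟶ L₁ ⊞ L₂ := biprod.lift a₁ a₂
  have hLL : FlatMod.IsFinLocFreeOfRank 2 (L₁ ⊞ L₂) := PBDeg.isFinLocFreeOfRank_biprod (hL s₁) (hL s₂)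
  haveI : (L₁ ⊞ L₂).IsQuasicoherent := Euler.isQuasicoherent_of_isFinLocFree fun x => by
    obtain ⟨U, hx, hU⟩ := hLL x
    exact ⟨U, 2, hx, hU⟩
  haveI : E.IsQuasicoherent := Euler.isQuasicoherent_of_isFinLocFree fun x => by
    obtain ⟨U, hx, hU⟩ := hE x
    exact ⟨U, 2, hx, hU⟩
  have hfib : ∀ y : B, Epi ((Scheme.Modules.pullback (B.fromSpecResidueField y)).map φ) := fun y => by
    let t := B.fromSpecResidueField y
    let F := Scheme.Modules.pullback t
    haveI : F.Additive := inferInstance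
    have hg₁ : (t ≫ s₁) ≫ f = t := by rw [Category.assoc, hs₁, Category.comp_id]
    have hg₂ : (t ≫ s₂) ≫ f = t := by rw [Category.assoc, hs₂, Category.comp_id]
    have hepi : ∀ (h : Spec (B.residueField y) ⟶ C) (hh : h ≫ f = t), Epi (quotAlong E q h hh) := fun h hh => by
      haveI := Functor.preservesEpimorphisms_of_adjunction (Scheme.Modules.pullbackPushforwardAdjunction h)
      haveI : Epi ((Scheme.Modules.pullback h).map q) := inferInstance
      unfold quotAlong
      infer_instance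
    let b₁ := quotAlong E q (t ≫ s₁) hg₁
    let b₂ := quotAlong E q (t ≫ s₂) hg₂
    haveI : Epi b₁ := hepi _ _
    haveI : Epi b₂ := hepi _ _
    let γ : F.obj E ⟶ F.obj E := F.map ((Scheme.Modules.pullbackId B).inv.app E) ≫
      (Scheme.Modules.pullbackComp t (𝟙 B)).hom.app E ≫ (Scheme.Modules.pullbackCongr (Category.comp_id t)).hom.app E
    have hab : ∀ (s : B ⟶ C) (hs : s ≫ f = 𝟙 B) (hg : (t ≫ s) ≫ f = t),
        F.map ((Scheme.Modules.pullbackId B).inv.app E ≫ quotAlong E q s hs) =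
          γ ≫ quotAlong E q (t ≫ s) hg ≫ (Scheme.Modules.pullbackComp t s).inv.app O1 := fun s hs hg => by
      rw [quotAlong_comp E q s t hs (Category.comp_id t) hg]
      simp [quotAlong, γ, F, Functor.map_comp]
    have hne : kernel.ι b₁ ≫ b₂ ≠ 0 := fun h0 => by
      let u := Abelian.epiDesc b₁ b₂ h0
      have hu : b₁ ≫ u = b₂ := Abelian.comp_epiDesc _ _ _
      haveI : Epi u := epi_of_epi_fac hu
      haveI : IsIso u := ASBun21.HorrocksGen.isIso_of_epi_rank (hL _) (hL _) u
      have := (hP.univ _ t _ (hL (t ≫ s₂)) b₂ inferInstance).unique (y₁ := t ≫ s₁) (y₂ := t ≫ s₂)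
        ⟨hg₁, asIso u, by simpa [b₁, b₂, quotAlong] using hu⟩
        ⟨hg₂, Iso.refl _, by simp [b₂, quotAlong]⟩
      have h1 := congr($this (IsLocalRing.closedPoint _))
      rw [Scheme.Hom.comp_apply, Scheme.Hom.comp_apply, B.fromSpecResidueField_apply] at h1
      exact Set.disjoint_left.1 hdisj ⟨y, rfl⟩ ⟨y, h1.symm⟩
    haveI := epi_of_ne_zero (hL (t ≫ s₂)) _ hne
    refine Preadditive.epi_of_cancel_zero _ fun {Z} g hg => ?_
    let g₁ := (Scheme.Modules.pullbackComp t s₁).inv.app O1 ≫ F.map biprod.inl ≫ g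
    let g₂ := (Scheme.Modules.pullbackComp t s₂).inv.app O1 ≫ F.map biprod.inr ≫ g
    have hφ : φ = a₁ ≫ biprod.inl + a₂ ≫ biprod.inr := biprod.lift_eq
    haveI : IsIso γ := inferInstance
    have hsum : b₁ ≫ g₁ + b₂ ≫ g₂ = 0 := by
      rw [← cancel_epi γ, comp_zero, ← hg, hφ]
      show _ = F.map (((Scheme.Modules.pullbackId B).inv.app E ≫ quotAlong E q s₁ hs₁) ≫ biprod.inl +
        ((Scheme.Modules.pullbackId B).inv.app E ≫ quotAlong E q s₂ hs₂) ≫ biprod.inr) ≫ g
      rw [F.map_add, F.map_comp ((Scheme.Modules.pullbackId B).inv.app E ≫ quotAlong E q s₁ hs₁),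
        F.map_comp ((Scheme.Modules.pullbackId B).inv.app E ≫ quotAlong E q s₂ hs₂),
        hab s₁ hs₁ hg₁, hab s₂ hs₂ hg₂]
      simp [g₁, g₂, b₁, b₂, F, Preadditive.comp_add, Preadditive.add_comp]
    have hg₂0 : g₂ = 0 := by
      have h := congrArg (kernel.ι b₁ ≫ ·) hsum
      simp only [Preadditive.comp_add, kernel.condition_assoc, zero_comp, comp_zero, zero_add] at h
      exact (cancel_epi (kernel.ι b₁ ≫ b₂)).1 ((Category.assoc _ _ _).trans (h.trans comp_zero.symm))
    have hg₁0 : g₁ = 0 := by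
      rw [hg₂0, comp_zero, add_zero] at hsum
      exact (cancel_epi b₁).1 (hsum.trans comp_zero.symm)
    have e₁ : F.map biprod.inl ≫ g = 0 :=
      (cancel_epi ((Scheme.Modules.pullbackComp t s₁).inv.app O1)).1 (hg₁0.trans comp_zero.symm)
    have e₂ : F.map biprod.inr ≫ g = 0 :=
      (cancel_epi ((Scheme.Modules.pullbackComp t s₂).inv.app O1)).1 (hg₂0.trans comp_zero.symm)
    rw [← Category.id_comp g, ← CategoryTheory.Functor.map_id, ← biprod.total, Functor.map_add,
      Preadditive.add_comp, Functor.map_comp_assoc, Functor.map_comp_assoc, e₁, e₂, comp_zero, comp_zero, add_zero]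
  haveI : Epi φ := by
    refine HilbStrat10.epi_of_isIso_fibres (Euler.isCoh_of_isFinLocFree fun x => by
      obtain ⟨U, hx, hU⟩ := hLL x
      exact ⟨U, 2, hx, hU⟩).2 φ fun y => ?_
    haveI := hfib y
    exact ASBun21.HorrocksGen.isIso_of_epi_rank (OX.isFinLocFreeOfRank_pullback _ hE)
      (OX.isFinLocFreeOfRank_pullback _ hLL) _
  haveI : IsIso φ := ASBun21.HorrocksGen.isIso_of_epi_rank hE hLL φ
  exact ⟨asIso φ⟩

/-- The bundle inverse to the ideal of a closed subscheme is trivial along a map avoiding it. -/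
theorem pull_clsMod_idealMod_eq_one {C T : Scheme.{u}} (g : T ⟶ C) (I : C.IdealSheafData)
    (hI : PicF.IsInvertible (ClSub.idealMod I)) (hg : ∀ x, g x ∉ (I.support : Set C)) :
    Cube.pull g (Cube.clsMod hI) = 1 := by
  rw [← Cube.clsMod_pullback g hI, Cube.clsMod_eq_one_iff]
  haveI : Epi (OmegaBC.pullι g I) := (OX.epi_iff _).2 fun x =>
    (ModuleCat.epi_iff_surjective _).2 (HodgeIndex.surjective_pullι g I (hg x))
  haveI := HodgeIndex.isIso_of_epi_inv (Ample.isInvertible_pullback g hI) Euler.isInvertible_structure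
    (OmegaBC.pullι g I)
  exact ⟨asIso (OmegaBC.pullι g I)⟩

end GrothLib.Sect28
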